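import Cfsg.Agent.H508.KB.Defs
import Cfsg.Agent.H978.Alm.Nonab
import Cfsg.Agent.S0188
import Cfsg.Agent.Blocks.Covering
import Cfsg.Agent.Blocks.Local
import Cfsg.Agent.Blocks.Central
import Cfsg.Prelude.Def_LieTypeChar
import Cfsg.Prelude.Def_Classification2
import Cfsg.Agent.H940.RatB.Count
import Cfsg.Agent.S0157
import Cfsg.Agent.Characters.Linear
import Cfsg.Agent.FastGrp
import Cfsg.Agent.Prune
set_option linter.all false

section
prune_inst 0x7f00000000000000000000000000000000000000000000000000000000000000000000000000000000000000000000000000000000000000000000000000000000000000000000000000000000000000003fffffffffffffffffffffffffffbeffbdfbfeffff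

-- part: H819/KB/Prod
section
prune_inst 0x4010000
set_option linter.all false
open scoped Cfsg.Agent.FastGrp

/-!
# S4822, T0: product characters of `N = S ^ t` in the principal block (helper819)

* `mem_outer` : the outer product of characters in the principal blocks is in the principal block;
* `step` : the same for commuting subgroups with trivial intersection;
* `exists_prod` : the product of characters of the components of `N`.
-/

set_option autoImplicit false

open Cfsg Subgroup Cfsg.Agent.H508.KB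
open Cfsg.Agent.Lib.MinNormalNonabelian Cfsg.Agent.H531.LemX
open scoped ComplexConjugate

namespace Cfsg.Agent.H819.KB.Prod

open Cfsg.Agent.Blocks.Local Cfsg.Agent.Blocks.Basic

universe u v

section outer

variable {A : Type u} {B : Type v} [Group A] [Group B]

theorem centralizer_pair (a : A) (b : B) :
    centralizer ({(a, b)} : Set (A × B)) = (centralizer ({a} : Set A)).prod (centralizer ({b} : Set B)) := by
  ext ⟨x, y⟩
  simp only [mem_prod, mem_centralizer_singleton_iff, Prod.mk_mul_mk, Prod.mk.injEq]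

theorem centralChar_outer (φ : A → ℂ) (ψ : B → ℂ) (a : A) (b : B) :
    centralChar (fun x : A × B => φ x.1 * ψ x.2) (a, b) = centralChar φ a * centralChar ψ b := by
  unfold centralChar
  rw [centralizer_pair, index_prod]
  push_cast
  rw [div_mul_div_comm]
  congr 1
  ring

/-- the outer product of characters in the principal blocks -/
theorem mem_outer [Finite A] [Finite B] {M : Ideal AlgInt} [M.IsPrime] {α : IrrCharacter A}
    (hα : α ∈ principalBlock M A) {β : IrrCharacter B} (hβ : β ∈ principalBlock M B) :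
    (⟨fun x => (α : A → ℂ) x.1 * (β : B → ℂ) x.2, Cfsg.Agent.S0188.isIrr_outer α.2 β.2⟩ : IrrCharacter (A × B)) ∈
      principalBlock M (A × B) := by
  rintro ⟨a, b⟩
  have h1 : centralChar (fun _ : A × B => (1 : ℂ)) (a, b) =
      centralChar (fun _ : A => (1 : ℂ)) a * centralChar (fun _ : B => (1 : ℂ)) b := by
    rw [← centralChar_outer]
    simp only [mul_one]
  show MemLocalIdeal M (centralChar (fun _ : A × B => (1 : ℂ)) (a, b) -
    centralChar (fun x : A × B => (α : A → ℂ) x.1 * (β : B → ℂ) x.2) (a, b))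
  rw [h1, centralChar_outer]
  refine memLocalIdeal_mul_sub_mul ?_ ?_ (hα a) (hβ b)
  · exact memLocalRing_of_isIntegral (Cfsg.Agent.Blocks.Central.isIntegral_centralChar isIrrCharacter_one a)
  · exact memLocalRing_of_isIntegral (Cfsg.Agent.Blocks.Central.isIntegral_centralChar β.2 b)

end outer

/-- transport of the principal block -/
theorem mem_comp {G : Type u} {H : Type v} [Group G] [Group H] [Finite G] {M : Ideal AlgInt} (e : G ≃* H)
    {χ : IrrCharacter H} (h : χ ∈ principalBlock M H) :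
    (⟨fun g => (χ : H → ℂ) (e g), Cfsg.Agent.Characters.Core.isIrr_comp e.toMonoidHom e.surjective χ.2⟩ :
      IrrCharacter G) ∈ principalBlock M G := by
  intro g
  have h1 := Cfsg.Agent.Blocks.Covering.centralChar_comp_equiv e (fun _ : H => (1 : ℂ)) g
  have h2 := Cfsg.Agent.Blocks.Covering.centralChar_comp_equiv e (χ : H → ℂ) g
  show MemLocalIdeal M (centralChar (fun _ : G => (1 : ℂ)) g - centralChar (fun g => (χ : H → ℂ) (e g)) g)
  rw [h1, h2]
  exact h (e g)

/-- the outer product for commuting subgroups with trivial intersection -/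
theorem step {G : Type u} [Group G] [Finite G] {H K : Subgroup G} (hc : ∀ a ∈ H, ∀ b ∈ K, Commute a b)
    (hd : ∀ z ∈ H, z ∈ K → z = 1) {M : Ideal AlgInt} [M.IsPrime] (α : IrrCharacter H)
    (hα : α ∈ principalBlock M H) (β : IrrCharacter K) (hβ : β ∈ principalBlock M K) :
    ∃ ψ : IrrCharacter ↥(H ⊔ K), ψ ∈ principalBlock M ↥(H ⊔ K) ∧
      ∀ (a : G) (ha : a ∈ H) (b : G) (hb : b ∈ K) (hab : a * b ∈ H ⊔ K),
        (ψ : ↥(H ⊔ K) → ℂ) ⟨a * b, hab⟩ = (α : H → ℂ) ⟨a, ha⟩ * (β : K → ℂ) ⟨b, hb⟩ := by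
  let f : H × K →* ↥(H ⊔ K) :=
    { toFun := fun x => ⟨x.1 * x.2, mul_mem (le_sup_left (b := K) x.1.2) (le_sup_right (a := H) x.2.2)⟩
      map_one' := by
        apply Subtype.ext
        simp
      map_mul' := by
        rintro ⟨a, b⟩ ⟨c, d⟩
        apply Subtype.ext
        change (a * c : G) * (b * d) = (a * b) * (c * d)
        have := (hc c c.2 b b.2).eq
        calc (a * c : G) * (b * d) = a * (c * b) * d := by group
          _ = a * (b * c) * d := by rw [this]
          _ = (a * b) * (c * d) := by group }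
  have hinj : Function.Injective f := by
    rw [injective_iff_map_eq_one]
    rintro ⟨a, b⟩ h
    have h1 : (a : G) * b = 1 := congrArg Subtype.val h
    have h2 : (a : G) = (b : G)⁻¹ := eq_inv_of_mul_eq_one_left h1
    have h3 : (a : G) = 1 := hd a a.2 (by rw [h2]; exact inv_mem b.2)
    have h4 : (b : G) = 1 := by rw [h3, one_mul] at h1; exact h1
    exact Prod.ext (Subtype.ext h3) (Subtype.ext h4)
  have hle : H ≤ normalizer (K : Set G) := by
    intro a ha
    rw [mem_normalizer_iff]
    intro b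
    constructor
    · intro hb
      rw [(hc a ha b hb).eq, mul_inv_cancel_right]
      exact hb
    · intro hb
      have h1 := (hc a⁻¹ (inv_mem ha) _ hb).eq
      have h2 : b = a * b * a⁻¹ := by
        have h3 : a⁻¹ * (a * b * a⁻¹) = (a * b * a⁻¹) * a⁻¹ := h1
        have h4 : b * a⁻¹ = (a * b * a⁻¹) * a⁻¹ := by rw [← h3]; group
        exact mul_right_cancel h4
      rw [h2]
      exact hb
  have hsurj : Function.Surjective f := by
    rintro ⟨x, hx⟩
    have h1 : x ∈ ((H ⊔ K : Subgroup G) : Set G) := hx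
    rw [coe_mul_of_left_le_normalizer_right _ _ hle] at h1
    obtain ⟨a, ha, b, hb, rfl⟩ := h1
    exact ⟨(⟨a, ha⟩, ⟨b, hb⟩), rfl⟩
  let e : H × K ≃* ↥(H ⊔ K) := MulEquiv.ofBijective f ⟨hinj, hsurj⟩
  refine ⟨_, mem_comp e.symm (mem_outer hα hβ), fun a ha b hb hab => ?_⟩
  have h1 : e.symm ⟨a * b, hab⟩ = (⟨a, ha⟩, ⟨b, hb⟩) := by
    rw [MulEquiv.symm_apply_eq]
    rfl
  show (α : H → ℂ) (e.symm ⟨a * b, hab⟩).1 * (β : K → ℂ) (e.symm ⟨a * b, hab⟩).2 = _
  rw [h1]

section main

variable {p : ℕ} [Fact p.Prime] {M : Ideal AlgInt} {G : Type u} [Group G] [Finite G] {N : Subgroup G} [N.Normal]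

omit [Fact p.Prime] in
theorem aux (hM : IsPModular p M) (hstr : Str N) (θ : ∀ V : minSet N, IrrCharacter ↥V.1)
    (hθ : ∀ V : minSet N, θ V ∈ principalBlock M ↥V.1) (s : Finset (minSet N)) :
    ∀ W : Subgroup G, W = s.sup (fun V => V.1) →
    ∃ Θ : IrrCharacter W, Θ ∈ principalBlock M W ∧ ∀ V ∈ s, ∀ (n : W) (hn : (n : G) ∈ V.1),
      (Θ : W → ℂ) n * (θ V : ↥V.1 → ℂ) 1 = (Θ : W → ℂ) 1 * (θ V : ↥V.1 → ℂ) ⟨n, hn⟩ := by
  classical
  have : M.IsPrime := isPrime_of_isPModular hM
  induction s using Finset.induction_on with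
  | empty =>
    intro W _
    exact ⟨⟨fun _ => 1, isIrrCharacter_one⟩, sameBlock_refl _, fun V hV => absurd hV (Finset.notMem_empty _)⟩
  | insert V₀ s hV₀ ih =>
    intro W hW
    rw [Finset.sup_insert] at hW
    subst hW
    obtain ⟨Θ, hΘ, h⟩ := ih _ rfl
    have hc : ∀ a ∈ V₀.1, ∀ b ∈ s.sup (fun V : minSet N => V.1), Commute a b := by
      intro a ha
      have h1 : s.sup (fun V : minSet N => V.1) ≤ centralizer ({a} : Set G) := by
        refine Finset.sup_le fun V hV b hb => ?_
        rw [mem_centralizer_singleton_iff]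
        exact (hstr.comm V₀ V (fun h => hV₀ (h ▸ hV)) a ha b hb).eq.symm
      intro b hb
      exact (mem_centralizer_singleton_iff.1 (h1 hb)).symm
    have hd : ∀ z ∈ V₀.1, z ∈ s.sup (fun V : minSet N => V.1) → z = 1 := fun z hz hz' =>
      hstr.cen V₀ z hz fun t ht => (hc t ht z hz').symm
    obtain ⟨ψ, hψ, hv⟩ := step hc hd (θ V₀) (hθ V₀) Θ hΘ
    refine ⟨ψ, hψ, fun V hV n hn => ?_⟩
    have h1 : (ψ : ↥(V₀.1 ⊔ s.sup (fun V : minSet N => V.1)) → ℂ) 1 =
        (θ V₀ : ↥V₀.1 → ℂ) 1 * (Θ : ↥(s.sup (fun V : minSet N => V.1)) → ℂ) 1 := by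
      have h2 := hv 1 (one_mem _) 1 (one_mem _) (by rw [mul_one]; exact one_mem _)
      have h3 : (⟨(1 : G) * 1, by rw [mul_one]; exact one_mem _⟩ : ↥(V₀.1 ⊔ s.sup (fun V : minSet N => V.1))) = 1 :=
        Subtype.ext (mul_one _)
      rw [h3] at h2
      exact h2
    rw [h1]
    rcases Finset.mem_insert.1 hV with rfl | hV
    · have h2 := hv n hn 1 (one_mem _) (by rw [mul_one]; exact n.2)
      have h3 : (⟨(n : G) * 1, by rw [mul_one]; exact n.2⟩ : ↥(V.1 ⊔ s.sup (fun V : minSet N => V.1))) = n :=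
        Subtype.ext (mul_one _)
      rw [h3] at h2
      rw [h2]
      have h4 : (⟨(1 : G), one_mem _⟩ : ↥(s.sup (fun V : minSet N => V.1))) = 1 := rfl
      rw [h4]
      ring
    · have hnW : (n : G) ∈ s.sup (fun V : minSet N => V.1) :=
        (Finset.le_sup (f := fun V : minSet N => V.1) hV : V.1 ≤ _) hn
      have h2 := hv 1 (one_mem _) n hnW (by rw [one_mul]; exact n.2)
      have h3 : (⟨1 * (n : G), by rw [one_mul]; exact n.2⟩ : ↥(V₀.1 ⊔ s.sup (fun V : minSet N => V.1))) = n :=
        Subtype.ext (one_mul _)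
      rw [h3] at h2
      rw [h2]
      have h4 : (⟨(1 : G), one_mem _⟩ : ↥V₀.1) = 1 := rfl
      rw [h4, mul_assoc, h V hV ⟨n, hnW⟩ hn]
      ring

/-- T0: product characters -/
theorem exists_prod (hM : IsPModular p M) (hstr : Str N) (θ : ∀ V : minSet N, IrrCharacter ↥V.1)
    (hθ : ∀ V : minSet N, θ V ∈ principalBlock M ↥V.1) :
    ∃ Θ : IrrCharacter N, Θ ∈ principalBlock M N ∧ ∀ (V : minSet N) (n : N) (hn : (n : G) ∈ V.1),
      (Θ : N → ℂ) n * (θ V : ↥V.1 → ℂ) 1 = (Θ : N → ℂ) 1 * (θ V : ↥V.1 → ℂ) ⟨n, hn⟩ := by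
  classical
  have : Fintype (minSet N) := Fintype.ofFinite _
  have h1 : N = (Finset.univ : Finset (minSet N)).sup (fun V => V.1) := by
    rw [Finset.sup_univ_eq_iSup, ← sSup_eq_iSup']
    exact hstr.gen.symm
  obtain ⟨Θ, hΘ, h⟩ := aux hM hstr θ hθ Finset.univ N h1
  exact ⟨Θ, hΘ, fun V => h V (Finset.mem_univ V)⟩

end main

end Cfsg.Agent.H819.KB.Prod
end

-- part: H626/ExtB/Perm
section
set_option linter.all false
open scoped Cfsg.Agent.FastGrp

/-!
# Characters of the principal block which restrict irreducibly to a normal subgroup (helper626)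

* `irr_restrict`: if `S` and `A` have the same orbits on the pairs of points of `A ⧸ K`, then every irreducible
  constituent of the permutation character of `A` on `A ⧸ K` restricts irreducibly to `S`;
* `exists_ext`: if moreover `p` divides `|A : K|`, then one of them lies in the principal block and its restriction
  to `S` is not trivial;
* `extB_of_orbits`: `ExtB p M S` from a subgroup `H` of `S` of index divisible by `p`, self-normalizing, with class
  invariant under `Aut(S)`, such that the automorphisms preserving `H` preserve all the double cosets of `H`.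
-/

set_option autoImplicit false
set_option linter.unusedSectionVars false

open Cfsg Subgroup
open scoped ComplexConjugate

namespace Cfsg.Agent.H626.ExtB.Perm

open Cfsg.Agent.Characters.Core Cfsg.Agent.H508.KB

universe u

section burnside

/-- Burnside's lemma for pairs -/
theorem sum_fix_sq {α Ω : Type*} [Group α] [Fintype α] [MulAction α Ω] [Finite Ω] :
    ∑ a : α, (Nat.card {x : Ω // a • x = x} : ℂ) * (Nat.card {x : Ω // a • x = x} : ℂ) =
      (Nat.card (Quotient (MulAction.orbitRel α (Ω × Ω))) : ℂ) * (Nat.card α : ℂ) := by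
  classical
  have hΩ : Fintype Ω := Fintype.ofFinite Ω
  have h1 := MulAction.sum_card_fixedBy_eq_card_orbits_mul_card_group α (Ω × Ω)
  have h2 : ∀ a : α, Fintype.card (MulAction.fixedBy (Ω × Ω) a) =
      Nat.card {x : Ω // a • x = x} * Nat.card {x : Ω // a • x = x} := by
    intro a
    rw [← Nat.card_prod, ← Nat.card_eq_fintype_card]
    refine Nat.card_congr ⟨fun x => (⟨x.1.1, congrArg Prod.fst x.2⟩, ⟨x.1.2, congrArg Prod.snd x.2⟩),
      fun y => ⟨(y.1.1, y.2.1), Prod.ext y.1.2 y.2.2⟩, fun x => rfl, fun y => rfl⟩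
  rw [Finset.sum_congr rfl fun a _ => h2 a] at h1
  rw [Nat.card_eq_fintype_card (α := Quotient _), Nat.card_eq_fintype_card (α := α)]
  exact_mod_cast h1

end burnside

variable {A : Type u} [Group A] [Finite A]

/-- `S` and `A` have the same orbits on pairs of points of `A ⧸ K`. -/
def SamePairs (S K : Subgroup A) : Prop :=
  ∀ (a : A) (x y : A ⧸ K), ∃ s ∈ S, s • x = a • x ∧ s • y = a • y

theorem classInner_self (K : Subgroup A) [Fintype A] :
    classInner (fixedPointCharacter K) (fixedPointCharacter K) =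
      (Nat.card (Quotient (MulAction.orbitRel A ((A ⧸ K) × (A ⧸ K)))) : ℂ) := by
  rw [classInner_def]
  have h1 : ∀ a : A, fixedPointCharacter K a * conj (fixedPointCharacter K a) =
      (Nat.card {x : A ⧸ K // a • x = x} : ℂ) * (Nat.card {x : A ⧸ K // a • x = x} : ℂ) := by
    intro a
    unfold fixedPointCharacter
    rw [map_natCast]
    rfl
  rw [Finset.sum_congr rfl fun a _ => h1 a, sum_fix_sq, mul_comm, mul_assoc, mul_inv_cancel₀, mul_one]
  exact_mod_cast Nat.card_pos.ne'

theorem classInner_self_restrict (S K : Subgroup A) [Fintype S] (h : SamePairs S K) :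
    classInner (fun s : S => fixedPointCharacter K (s : A)) (fun s : S => fixedPointCharacter K (s : A)) =
      (Nat.card (Quotient (MulAction.orbitRel A ((A ⧸ K) × (A ⧸ K)))) : ℂ) := by
  rw [classInner_def]
  have h1 : ∀ a : S, fixedPointCharacter K (a : A) * conj (fixedPointCharacter K (a : A)) =
      (Nat.card {x : A ⧸ K // a • x = x} : ℂ) * (Nat.card {x : A ⧸ K // a • x = x} : ℂ) := by
    intro a
    unfold fixedPointCharacter
    rw [map_natCast]
    rfl
  rw [Finset.sum_congr rfl fun a _ => h1 a, sum_fix_sq, mul_comm, mul_assoc, mul_inv_cancel₀, mul_one]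
  · refine congrArg Nat.cast (Nat.card_congr (Quotient.congrRight fun x y => ?_))
    constructor
    · rintro ⟨s, hs⟩
      exact ⟨(s : A), hs⟩
    · rintro ⟨a, ha⟩
      obtain ⟨s, hs, h3, h4⟩ := h a y.1 y.2
      refine ⟨⟨s, hs⟩, ?_⟩
      rw [← ha]
      exact Prod.ext h3 h4
  · exact_mod_cast Nat.card_pos.ne'

theorem isCharacter_fix (K : Subgroup A) : IsCharacter A (fixedPointCharacter K) :=
  Cfsg.Agent.S0157.isCharacter_fixedBy (A ⧸ K)

theorem isCharacter_restrict (S : Subgroup A) {χ : A → ℂ} (h : IsCharacter A χ) :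
    IsCharacter S (fun s : S => χ (s : A)) := isCharacter_comp S.subtype h

/-- **The constituents of the permutation character restrict irreducibly.** -/
theorem irr_restrict (S K : Subgroup A) [Fintype A] (h : SamePairs S K) (ψ : IrrCharacter A)
    (hψ : classInner (fixedPointCharacter K) (ψ : A → ℂ) ≠ 0) :
    IsIrrCharacter S (fun s : S => (ψ : A → ℂ) (s : A)) := by
  classical
  have hfin : Finite (IrrCharacter A) := finite_irr
  have hft : Fintype (IrrCharacter A) := Fintype.ofFinite _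
  have hS : Fintype S := Fintype.ofFinite _
  obtain ⟨m, hm⟩ := exists_nat_comb (isCharacter_fix K)
  have hmψ : m ψ ≠ 0 := by
    intro h0
    apply hψ
    rw [hm, classInner_sum_nsmul_irr, h0, Nat.cast_zero]
  set r : IrrCharacter A → ↥S → ℂ := fun χ s => (χ : A → ℂ) (s : A) with hr
  have hrc : ∀ χ, IsCharacter S (r χ) := fun χ => isCharacter_restrict S (isIrr_isCharacter χ.2)
  have hc : ∀ χ χ' : IrrCharacter A, ∃ n : ℕ, classInner (r χ) (r χ') = n := fun χ χ' =>
    classInner_isNat (hrc χ) (hrc χ')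
  choose c hc using hc
  have hcpos : ∀ χ, 1 ≤ c χ χ := by
    intro χ
    rw [Nat.one_le_iff_ne_zero]
    intro h0
    have h1 := hc χ χ
    rw [h0, Nat.cast_zero] at h1
    have h2 := classInner_self_eq_zero h1
    have h3 : (χ : A → ℂ) ((1 : ↥S) : A) = 0 := congrFun h2 1
    exact isIrr_apply_one_ne_zero χ.2 h3
  -- the restriction of the permutation character
  have hmr : (fun s : S => fixedPointCharacter K (s : A)) = ∑ χ : IrrCharacter A, (m χ : ℂ) • r χ := by
    funext s
    rw [hm, Finset.sum_apply, Finset.sum_apply]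
    refine Finset.sum_congr rfl fun χ _ => ?_
    rw [Pi.smul_apply, Pi.smul_apply, nsmul_eq_mul, smul_eq_mul]
  have hA : classInner (fixedPointCharacter K) (fixedPointCharacter K) = ((∑ χ, m χ * m χ : ℕ) : ℂ) := by
    have h2 := classInner_sum_smul_sum_smul (fun ψ : IrrCharacter A => (m ψ : ℂ)) (fun ψ => (m ψ : ℂ))
    simp only [Nat.cast_smul_eq_nsmul] at h2
    rw [← hm] at h2
    rw [h2]
    push_cast
    refine Finset.sum_congr rfl fun χ _ => ?_
    rw [map_natCast]
  have hB : classInner (fun s : S => fixedPointCharacter K (s : A)) (fun s : S => fixedPointCharacter K (s : A)) =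
      ((∑ χ, ∑ χ', m χ * m χ' * c χ χ' : ℕ) : ℂ) := by
    rw [hmr, classInner_sum_left]
    push_cast
    refine Finset.sum_congr rfl fun χ _ => ?_
    rw [classInner_smul_left, classInner_sum_right, Finset.mul_sum]
    refine Finset.sum_congr rfl fun χ' _ => ?_
    rw [classInner_smul_right, map_natCast, hc]
    ring
  have hAB : ∑ χ, m χ * m χ = ∑ χ, ∑ χ', m χ * m χ' * c χ χ' := by
    have h1 := classInner_self K
    have h2 := classInner_self_restrict S K h
    rw [hA] at h1
    rw [hB] at h2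
    exact_mod_cast h1.trans h2.symm
  have hle : ∀ χ, m χ * m χ * c χ χ ≤ ∑ χ', m χ * m χ' * c χ χ' := fun χ =>
    Finset.single_le_sum (f := fun χ' => m χ * m χ' * c χ χ') (fun _ _ => Nat.zero_le _) (Finset.mem_univ χ)
  have hle' : ∀ χ, m χ * m χ ≤ m χ * m χ * c χ χ := fun χ => Nat.le_mul_of_pos_right _ (hcpos χ)
  have h1 : c ψ ψ = 1 := by
    by_contra hne
    have h2 : 2 ≤ c ψ ψ := by
      have := hcpos ψ
      omega
    have h3 : m ψ * m ψ < m ψ * m ψ * c ψ ψ := by
      have h4 : 0 < m ψ * m ψ := Nat.mul_pos (Nat.pos_of_ne_zero hmψ) (Nat.pos_of_ne_zero hmψ)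
      nlinarith
    have h5 : ∑ χ, m χ * m χ < ∑ χ, ∑ χ', m χ * m χ' * c χ χ' :=
      Finset.sum_lt_sum (fun χ _ => (hle' χ).trans (hle χ)) ⟨ψ, Finset.mem_univ _, h3.trans_le (hle ψ)⟩
    omega
  refine isIrr_of_classInner_self (hrc ψ) ?_
  rw [hc, h1, Nat.cast_one]

/-- **A character of the principal block with irreducible, nontrivial restriction.** -/
theorem exists_ext {p : ℕ} {M : Ideal AlgInt} (hM : IsPModular p M) (S K : Subgroup A) (hp : p ∣ K.index)
    (h : SamePairs S K) :
    ∃ ψ : IrrCharacter A, ψ ∈ principalBlock M A ∧ IsIrrCharacter S (fun s : S => (ψ : A → ℂ) (s : A)) ∧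
      ∃ s : S, (ψ : A → ℂ) (s : A) ≠ 1 := by
  classical
  have hK : Fintype K := Fintype.ofFinite _
  have hA : Fintype A := Fintype.ofFinite _
  obtain ⟨ψ, h1, h2, h3⟩ := Cfsg.Agent.H139.RealB0.Crit.exists_constituent hM K hp
  have h4 : classInner (fixedPointCharacter K) (ψ : A → ℂ) ≠ 0 := by
    rw [Cfsg.Agent.H139.RealB0.Crit.classInner_fixedPointCharacter, ← map_sum]
    refine mul_ne_zero (inv_ne_zero (by exact_mod_cast Nat.card_pos.ne')) ?_
    rw [map_ne_zero]
    exact h3
  refine ⟨ψ, h1, irr_restrict S K h ψ h4, ?_⟩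
  by_contra hcon
  push Not at hcon
  -- `ψ` is linear, trivial on `S` and on `K`
  have hψ1 : (ψ : A → ℂ) 1 = 1 := hcon 1
  have hlin : ∀ a b : A, (ψ : A → ℂ) (a * b) = (ψ : A → ℂ) a * (ψ : A → ℂ) b := by
    intro a b
    obtain ⟨f, hf⟩ := Cfsg.Agent.Characters.Linear.exists_hom_of_isIrrCharacter ψ.2 hψ1
    rw [hf]
    simp
  have hk : ∀ k : K, (ψ : A → ℂ) k = 1 := by
    intro k
    have h5 : ∑ k' : K, (ψ : A → ℂ) ((k * k' : K) : A) = ∑ k' : K, (ψ : A → ℂ) (k' : A) :=
      Fintype.sum_equiv (Equiv.mulLeft k) _ _ fun k' => rfl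
    have h6 : ∑ k' : K, (ψ : A → ℂ) ((k * k' : K) : A) = (ψ : A → ℂ) k * ∑ k' : K, (ψ : A → ℂ) (k' : A) := by
      rw [Finset.mul_sum]
      refine Finset.sum_congr rfl fun k' _ => ?_
      rw [Subgroup.coe_mul, hlin]
    rw [h6] at h5
    exact mul_right_cancel₀ h3 (h5.trans (one_mul _).symm)
  apply h2
  funext a
  obtain ⟨s, hs, h5, -⟩ := h a (QuotientGroup.mk 1) (QuotientGroup.mk 1)
  have h6 : s⁻¹ * a ∈ K := by
    have h7 : (QuotientGroup.mk (s * 1) : A ⧸ K) = QuotientGroup.mk (a * 1) := h5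
    rw [mul_one, mul_one, QuotientGroup.eq] at h7
    exact h7
  have h7 : a = s * (s⁻¹ * a) := by group
  rw [h7, hlin, hcon ⟨s, hs⟩, hk ⟨_, h6⟩, mul_one]

section ext

variable {S : Type u} [Group S] [Finite S]

/-- The hypotheses on a subgroup `H` of `S`: self-normalizing, class invariant under `Aut(S)`, and the automorphisms
which preserve `H` preserve the double cosets of `H`. -/
structure Stable (H : Subgroup S) : Prop where
  self : ∀ s : S, (∀ x ∈ H, s * x * s⁻¹ ∈ H) → s ∈ H
  cls : ∀ α : MulAut S, ∃ s : S, ∀ x ∈ H, s * α x * s⁻¹ ∈ H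
  double : ∀ α : MulAut S, (∀ x ∈ H, α x ∈ H) → ∀ s : S, ∃ h ∈ H, ∃ h' ∈ H, α s = h * s * h'

/-- The automorphism of `S` induced by an element of `A` (`S` embedded as a normal subgroup). -/
theorem exists_aut {A : Type u} [Group A] (f : S →* A) (hf : Function.Injective f) (hn : f.range.Normal) (a : A) :
    ∃ α : MulAut S, ∀ s : S, f (α s) = a * f s * a⁻¹ := by
  have h1 : ∀ (b : A) (s : S), ∃ t : S, f t = b * f s * b⁻¹ := fun b s => hn.conj_mem _ ⟨s, rfl⟩ b
  choose g hg using h1
  have hgi : ∀ (b : A) (s : S), g b⁻¹ (g b s) = s := by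
    intro b s
    apply hf
    rw [hg, hg]
    group
  refine ⟨⟨⟨g a, g a⁻¹, hgi a, fun s => ?_⟩, fun s t => ?_⟩, fun s => hg a s⟩
  · have := hgi a⁻¹ s
    rwa [inv_inv] at this
  · apply hf
    show f (g a (s * t)) = f (g a s * g a t)
    rw [hg, map_mul, map_mul, hg, hg]
    group

/-- **`ExtB` from a subgroup whose permutation character behaves well under automorphisms.** -/
theorem extB_of_stable {p : ℕ} {M : Ideal AlgInt} (hM : IsPModular p M) (H : Subgroup S) (hst : Stable H)
    (hp : p ∣ H.index) : ExtB p M S := by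
  intro A _ _ f hf hn _ _
  classical
  set N : Subgroup A := f.range with hN
  set K : Subgroup A := normalizer ((H.map f : Subgroup A) : Set A) with hK
  -- elements of `K`
  have hmem : ∀ a : A, (∀ x ∈ H, a * f x * a⁻¹ ∈ H.map f) → a ∈ K := by
    intro a ha
    refine mem_normalizer_fintype fun n hn => ?_
    obtain ⟨x, hx, rfl⟩ := hn
    exact ha x hx
  have hpres : ∀ a ∈ K, ∀ x ∈ H, a * f x * a⁻¹ ∈ H.map f := fun a ha x hx =>
    (Subgroup.mem_normalizer_iff.1 ha _).1 ⟨x, hx, rfl⟩
  have hmap : ∀ s : S, f s ∈ H.map f → s ∈ H := by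
    rintro s ⟨t, ht, he⟩
    rwa [← hf he]
  -- `A = S K`
  have hSK : ∀ a : A, ∃ s : S, (f s)⁻¹ * a ∈ K := by
    intro a
    obtain ⟨α, hα⟩ := exists_aut f hf hn a
    obtain ⟨s, hs⟩ := hst.cls α
    refine ⟨s⁻¹, hmem _ fun x hx => ?_⟩
    refine ⟨s * α x * s⁻¹, hs x hx, ?_⟩
    rw [map_mul, map_mul, hα, map_inv]
    group
  have hinf : ∀ s : S, f s ∈ K ↔ s ∈ H := by
    intro s
    constructor
    · intro h
      refine hst.self s fun x hx => hmap _ ?_
      rw [map_mul, map_mul, map_inv]
      exact hpres _ h x hx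
    · intro h
      refine hmem _ fun x hx => ⟨s * x * s⁻¹, mul_mem (mul_mem h hx) (inv_mem h), ?_⟩
      rw [map_mul, map_mul, map_inv]
  -- the index
  have hidx : K.index = H.index := by
    refine (Nat.card_congr (Equiv.ofBijective (fun x : S ⧸ H => Quotient.liftOn' x
      (fun s => (QuotientGroup.mk (f s) : A ⧸ K)) ?_) ⟨?_, ?_⟩)).symm
    · intro s t hst'
      have h1 : s⁻¹ * t ∈ H := QuotientGroup.leftRel_apply.1 hst'
      rw [QuotientGroup.eq, ← map_inv, ← map_mul]
      exact (hinf _).2 h1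
    · intro x y
      induction x using QuotientGroup.induction_on with
      | _ s =>
      induction y using QuotientGroup.induction_on with
      | _ t =>
      intro h
      have h1 : (QuotientGroup.mk (f s) : A ⧸ K) = QuotientGroup.mk (f t) := h
      rw [QuotientGroup.eq, ← map_inv, ← map_mul, hinf] at h1
      exact QuotientGroup.eq.2 h1
    · intro y
      induction y using QuotientGroup.induction_on with
      | _ a =>
      obtain ⟨s, hs⟩ := hSK a
      exact ⟨QuotientGroup.mk s, QuotientGroup.eq.2 hs⟩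
  have hpair : SamePairs N K := by
    intro a x y
    have hrep : ∀ z : A ⧸ K, ∃ s : S, z = QuotientGroup.mk (f s) := by
      intro z
      induction z using QuotientGroup.induction_on with
      | _ b =>
      obtain ⟨s, hs⟩ := hSK b
      exact ⟨s, (QuotientGroup.eq.2 hs).symm⟩
    obtain ⟨s₁, rfl⟩ := hrep x
    obtain ⟨s₂, rfl⟩ := hrep y
    obtain ⟨t, ht⟩ := hSK (a * f s₁)
    set k : A := (f t)⁻¹ * (a * f s₁) with hk
    obtain ⟨α, hα⟩ := exists_aut f hf hn k
    obtain ⟨h, hh, h', hh', hd⟩ := hst.double α (fun x hx => hmap _ (by rw [hα]; exact hpres k ht x hx)) (s₁⁻¹ * s₂)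
    refine ⟨f (t * h * s₁⁻¹), ⟨_, rfl⟩, ?_, ?_⟩
    · show (QuotientGroup.mk (f (t * h * s₁⁻¹) * f s₁) : A ⧸ K) = QuotientGroup.mk (a * f s₁)
      rw [QuotientGroup.eq]
      have e : (f (t * h * s₁⁻¹) * f s₁)⁻¹ * (a * f s₁) = f h⁻¹ * k := by
        rw [hk, map_mul, map_mul, map_inv, map_inv]
        group
      rw [e]
      exact mul_mem ((hinf _).2 (inv_mem hh)) ht
    · show (QuotientGroup.mk (f (t * h * s₁⁻¹) * f s₂) : A ⧸ K) = QuotientGroup.mk (a * f s₂)
      rw [QuotientGroup.eq]
      have e : (f (t * h * s₁⁻¹) * f s₂)⁻¹ * (a * f s₂) = f h' * k := by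
        have h1 : a * f s₂ = f t * (k * f (s₁⁻¹ * s₂) * k⁻¹) * k := by
          rw [hk, map_mul, map_inv]
          group
        rw [h1, ← hα, hd, map_mul, map_mul, map_mul, map_mul, map_mul, map_inv]
        group
      rw [e]
      exact mul_mem ((hinf _).2 hh') ht
  obtain ⟨ψ, h1, h2, s, h3⟩ := exists_ext hM N K (hidx ▸ hp) hpair
  refine ⟨ψ, h1, ?_, ?_⟩
  · exact isIrr_comp f.rangeRestrict f.rangeRestrict_surjective h2
  · obtain ⟨x, hx⟩ := s.2
    refine ⟨x, ?_⟩
    rw [hx]
    exact h3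

end ext

end Cfsg.Agent.H626.ExtB.Perm
end
end
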